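import Groth.Prelude.Def_EtAcyc
import Groth.Agent.Sga1.UlaSL
import Groth.Agent.Etrest.VCBaseChange

/-!
# `EtAcyc.OnStrictLocalizations` in terms of `IsStrictLoc`; weakly étale base change

* `onStrictLocalizations_iff`: `OnStrictLocalizations g P` iff `P (spm β)` for all strict localizations
  `σ : Spec RY ⟶ Y`, `ξ : Spec RX ⟶ X` and local `β : RY →+* RX` with `spm β ≫ σ = ξ ≫ g`.
* `of_weaklyEtale`: stable under base change (more generally commutative squares) along weakly étale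
  morphisms, in particular along strict localizations `Spec R ⟶ Y`.
-/

set_option autoImplicit false
universe u

open CategoryTheory CategoryTheory.Limits AlgebraicGeometry Opposite IsLocalRing

namespace Groth.Agent.Etbc.H198.WeBC

open Groth.Agent.Etrest.StrictLoc Groth.Agent.Etrest.VCBaseChange Groth.Agent.Sga1.UlaSL

variable {X Y : Scheme.{u}} (g : X ⟶ Y) (P : ∀ ⦃X' Y' : Scheme.{u}⦄, (X' ⟶ Y') → Prop)

theorem onStrictLocalizations_iff : EtAcyc.OnStrictLocalizations g P ↔
    ∀ (RY RX : Type u) [CommRing RY] [CommRing RX] [IsLocalRing RY] [IsLocalRing RX]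
      (σ : Spec (CommRingCat.of RY) ⟶ Y) (ξ : Spec (CommRingCat.of RX) ⟶ X), IsStrictLoc σ →
      IsStrictLoc ξ → ∀ (β : RY →+* RX), IsLocalHom β → spm β ≫ σ = ξ ≫ g → P (spm β) := by
  constructor
  · intro h RY RX _ _ _ _ σ ξ hσ hξ β hβ hc
    have hpt : σ (closedPoint RY) = g (ξ (closedPoint RX)) := by
      have h1 := congrArg (fun (k : Spec (CommRingCat.of RX) ⟶ Y) => k (closedPoint RX)) hc
      have h2 : (spm β ≫ σ) (closedPoint RX) = σ (closedPoint RY) :=
        congrArg σ (closedPoint_map β)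
      exact h2.symm.trans h1
    obtain ⟨aY, lY, sY, eY⟩ := exists_specOf hσ _ hpt
    obtain ⟨aX, lX, sX, eX⟩ := exists_specOf hξ _ rfl
    let _ : Algebra RY RX := β.toAlgebra
    have hl : IsLocalHom (algebraMap RY RX) := hβ
    exact h (ξ (closedPoint RX)) RY RX ((specOf_comm g (ξ (closedPoint RX)) RY RX β).2 (by
      rw [eX, ← hc]
      exact congrArg (fun k => spm β ≫ k) eY))
  · intro h x RY RX _ _ _ _ _ _ hRY _ _ hRX _ _ hc
    exact h RY RX _ _ (isStrictLoc_specOf Y (g x) RY) (isStrictLoc_specOf X x RX)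
      (algebraMap RY RX) inferInstance ((specOf_comm g x RY RX (algebraMap RY RX)).1 hc)

variable {g P}

/-- Stability under commutative squares with weakly étale horizontal morphisms. -/
theorem of_weaklyEtale_sq (h : EtAcyc.OnStrictLocalizations g P) {X₁ Y₁ : Scheme.{u}}
    (g₁ : X₁ ⟶ Y₁) (b' : X₁ ⟶ X) (b : Y₁ ⟶ Y) [WeaklyEtale b] [WeaklyEtale b']
    (w : b' ≫ g = g₁ ≫ b) : EtAcyc.OnStrictLocalizations g₁ P := by
  rw [onStrictLocalizations_iff] at h ⊢
  intro RY RX _ _ _ _ σ ξ hσ hξ β hβ hc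
  exact h RY RX (σ ≫ b) (ξ ≫ b') (hσ.comp b) (hξ.comp b') β hβ (by
    rw [← Category.assoc, hc, Category.assoc, Category.assoc, w])

/-- Stability under base change along weakly étale morphisms. -/
theorem of_weaklyEtale (h : EtAcyc.OnStrictLocalizations g P) {X₁ Y₁ : Scheme.{u}}
    (g₁ : X₁ ⟶ Y₁) (b' : X₁ ⟶ X) (b : Y₁ ⟶ Y) [WeaklyEtale b] (sq : IsPullback b' g₁ g b) :
    EtAcyc.OnStrictLocalizations g₁ P := by
  have : WeaklyEtale b' := MorphismProperty.of_isPullback sq.flip inferInstance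
  exact of_weaklyEtale_sq h g₁ b' b sq.w

/-- Base change along a strict localization. -/
theorem of_isStrictLoc (h : EtAcyc.OnStrictLocalizations g P) {X₁ : Scheme.{u}} {R : Type u}
    [CommRing R] [IsLocalRing R] (g₁ : X₁ ⟶ Spec (CommRingCat.of R)) (b' : X₁ ⟶ X)
    (b : Spec (CommRingCat.of R) ⟶ Y) (hb : IsStrictLoc b) (sq : IsPullback b' g₁ g b) :
    EtAcyc.OnStrictLocalizations g₁ P := by
  have := weaklyEtale_of_isStrictLoc hb
  exact of_weaklyEtale h g₁ b' b sq

/-- Local `n`-acyclicity is stable under base change along strict localizations. -/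
theorem isLocAcyclicN_of_isStrictLoc {L : Set ℕ} {n : ℕ} (h : EtAcyc.IsLocAcyclicN g L n)
    {X₁ : Scheme.{u}} {R : Type u} [CommRing R] [IsLocalRing R] (g₁ : X₁ ⟶ Spec (CommRingCat.of R))
    (b' : X₁ ⟶ X) (b : Spec (CommRingCat.of R) ⟶ Y) (hb : IsStrictLoc b)
    (sq : IsPullback b' g₁ g b) : EtAcyc.IsLocAcyclicN g₁ L n :=
  of_isStrictLoc h g₁ b' b hb sq

end Groth.Agent.Etbc.H198.WeBC
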