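import Groth.Agent.Etcore.RpushLoc
import Groth.Agent.EtpbcA.ConsVan

/-!
# Sections of higher direct images which vanish near a point

`f : X ⟶ Y`, `W` étale over `Y` such that sections over `W` are exact, `w : W`.

* `VanH f F n ξ w`: the class `ξ ∈ H^n(X ×_Y W, F)` dies on `X ×_Y V'` for an étale neighbourhood `V'` of `w`.
* `eq_zero_of_van`: if `VanH f F n ξ w` implies `ξ = 0` for all `ξ`, then a section over `W` of `R^n f_* F` which
  vanishes near `w` is zero.
-/

set_option autoImplicit false
universe u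
open CategoryTheory CategoryTheory.Limits AlgebraicGeometry Opposite Abelian
open scoped Groth.Agent.Etcore.EtInst
open Groth.Agent.Etcore.EtInst

namespace Groth.Agent.Etbc.H198.GermInj

open Groth.Agent.Etcore.HQ Groth.Agent.Etcore.RpushLoc
open Groth.Agent.EtpbcA.ConsVan (Van)
open Groth.Agent.EtpbcA

variable {X Y : Scheme.{u}} (f : X ⟶ Y)

/-- The class `ξ` dies near `v`. -/
def VanH (F : EtCoh.Ab X) (n : ℕ) {V : Y.Etale} (ξ : HQ F (pr f V) n) (v : V.left) : Prop :=
  ∃ (V' : Y.Etale) (k : V' ⟶ V) (v' : V'.left), k.left v' = v ∧ res F (mm f k) (mm_pr f k) n ξ = 0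

/-- Exactness of a cokernel on sections, locally. -/
theorem locIm_of_cokernel {G F : EtCoh.Ab Y} (φ : G ⟶ F) {U : Y.Etale} (s : EtCoh.sect F U)
    (x : U.left) (h : (cokernel.π φ).hom.app (op U) s = 0) : StalkTools.LocIm φ s x := by
  obtain ⟨Ω, _, _, ζ, hζ⟩ := StalkTools.exists_geomPt x
  have h1 := StalkTools.locIm_iff (ζ ≫ U.hom) φ s (StalkTools.fibMk ζ)
  have h2 : StalkTools.fibPt (ζ ≫ U.hom) (StalkTools.fibMk ζ) = x := hζ
  rw [h2] at h1
  rw [h1]
  let ξ := ζ ≫ U.hom
  let T : ShortComplex (EtCoh.Ab Y) := ShortComplex.mk φ (cokernel.π φ) (cokernel.condition _)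
  have hT : T.Exact := ShortComplex.exact_of_g_is_cokernel _ (cokernelIsCokernel _)
  have hT' : (T.map (EtCoh.stalk ξ)).Exact := hT.map (EtCoh.stalk ξ)
  rw [ShortComplex.ab_exact_iff] at hT'
  refine hT' (StalkTools.germ ξ (StalkTools.fibMk ζ) s) ?_
  have h3 := StalkTools.stalk_map_germ ξ (cokernel.π φ) (StalkTools.fibMk ζ) s
  rw [h] at h3
  refine h3.trans ?_
  exact map_zero (ConcreteCategory.hom ((Scheme.pointSmallEtale ξ).toPresheafFiber U
    (StalkTools.fibMk ζ) (cokernel φ).obj))

variable {W : Y.Etale}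
  (hW : ∀ {G G' : EtCoh.Ab Y} (φ : G ⟶ G') [Epi φ], Function.Surjective (φ.hom.app (op W)))
  (w : W.left)

include hW in
/-- Sections of higher direct images vanishing near a point. -/
theorem eq_zero_of_van (n : ℕ) (F : EtCoh.Ab X)
    (h : ∀ ξ : HQ F (pr f W) n, VanH f F n ξ w → ξ = 0)
    (s : EtCoh.sect ((EtCoh.Rpush f n).obj F) W) (hs : Van _ s w) : s = 0 := by
  induction n generalizing F with
  | zero =>
    let e : (EtCoh.Rpush f 0).obj F ≅ (EtCoh.push f).obj F :=
      (EtCoh.push f).rightDerivedZeroIsoSelf.app F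
    let a : EtCoh.sect F ((EtCoh.bc f).obj W) := e.hom.hom.app (op W) s
    obtain ⟨V', k, v', hv', hk⟩ := hs.map e.hom
    have h1 : a = 0 := by
      apply (secP_bijective f F W).1
      rw [show secP f F W (0 : EtCoh.sect F ((EtCoh.bc f).obj W)) = 0 from sec_zero F _ _ _]
      refine h _ ⟨V', k, v', hv', ?_⟩
      rw [res_secP]
      have : F.obj.map ((EtCoh.bc f).map k).op a = 0 := hk
      rw [this]
      exact sec_zero F _ _ _
    have h2 : s = e.inv.hom.app (op W) (e.hom.hom.app (op W) s) := by
      have := congrArg (fun (t : (EtCoh.Rpush f 0).obj F ⟶ (EtCoh.Rpush f 0).obj F) =>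
        t.hom.app (op W) s) e.hom_inv_id
      exact this.symm
    rw [h2]
    have h3 : e.hom.hom.app (op W) s = 0 := h1
    rw [h3]
    exact map_zero _
  | succ n ih =>
    have hS := injSeq_shortExact F
    cases n with
    | zero =>
      obtain ⟨e⟩ := Groth.Agent.Etcore.DerLES.nonempty_iso_one_of_injective (EtCoh.push f) hS
      let φ := (EtCoh.push f).map (injSeq F).g
      let c : EtCoh.sect (cokernel φ) W := e.hom.hom.app (op W) s
      obtain ⟨a, ha⟩ := hW (cokernel.π φ) c
      have hs' : Van (cokernel φ) c w := hs.map e.hom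
      -- the class `δ a` vanishes
      have h1 : δ hS (pr f W) 0 (secP f (injSeq F).X₃ W a) = 0 := by
        obtain ⟨V', k, v', hv', hk⟩ := hs'
        have h2 : (cokernel.π φ).hom.app (op V') (((EtCoh.push f).obj (injSeq F).X₃).obj.map k.op a) = 0 := by
          have h3 := ConcreteCategory.congr_hom ((cokernel.π φ).hom.naturality k.op) a
          refine h3.trans ?_
          have h4 : (cokernel.π φ).hom.app (op W) a = c := ha
          change (cokernel φ).obj.map k.op ((cokernel.π φ).hom.app (op W) a) = 0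
          rw [h4]
          exact hk
        obtain ⟨V'', l, v'', hv'', t, ht⟩ := locIm_of_cokernel φ _ v' h2
        refine h _ ⟨V'', l ≫ k, v'', ?_, ?_⟩
        · rw [← hv', ← hv'']
          rfl
        · refine (res_δ hS (mm f (l ≫ k)) (mm_pr f (l ≫ k)) 0 _).trans ?_
          rw [res_secP]
          have e1 : secP f (injSeq F).X₃ V'' ((injSeq F).X₃.obj.map ((EtCoh.bc f).map (l ≫ k)).op a) =
              map (injSeq F).g (pr f V'') 0 (secP f (injSeq F).X₂ V'' t) := by
            rw [map_secP]
            refine congrArg (secP f (injSeq F).X₃ V'') ?_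
            refine Eq.trans ?_ ht.symm
            change ((EtCoh.push f).obj (injSeq F).X₃).obj.map (l ≫ k).op a = _
            rw [op_comp, Functor.map_comp]
            rfl
          rw [e1, δ_map]
          rfl
      obtain ⟨y, hy⟩ := exists_map_eq hS (pr f W) 0 _ h1
      obtain ⟨t, rfl⟩ := (secP_bijective f (injSeq F).X₂ W).2 y
      rw [map_secP] at hy
      have h5 : (injSeq F).g.hom.app (op ((EtCoh.bc f).obj W)) t = a :=
        (secP_bijective f (injSeq F).X₃ W).1 hy
      have h6 : c = 0 := by
        rw [← ha]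
        have h7 : a = φ.hom.app (op W) t := h5.symm
        rw [h7]
        have := congrArg (fun (q : (EtCoh.push f).obj (injSeq F).X₂ ⟶ cokernel φ) =>
          q.hom.app (op W) t) (cokernel.condition φ)
        exact this
      have h2 : s = e.inv.hom.app (op W) (e.hom.hom.app (op W) s) := by
        have := congrArg (fun (t : (EtCoh.Rpush f 1).obj F ⟶ (EtCoh.Rpush f 1).obj F) =>
          t.hom.app (op W) s) e.hom_inv_id
        exact this.symm
      rw [h2]
      have h3 : e.hom.hom.app (op W) s = 0 := h6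
      rw [h3]
      exact map_zero _
    | succ n =>
      obtain ⟨e⟩ := Groth.Agent.Etcore.DerLES.nonempty_iso_succ (EtCoh.push f) hS (Groth.Agent.Etcore.DerLES.acyc_of_injective _ _) n
      have h1 : e.hom.hom.app (op W) s = 0 := by
        refine ih (injSeq F).X₃ ?_ _ (hs.map e.hom)
        rintro ξ ⟨V', k, v', hv', hk⟩
        have h2 : δ hS (pr f W) (n + 1) ξ = 0 := by
          refine h _ ⟨V', k, v', hv', ?_⟩
          refine (res_δ hS (mm f k) (mm_pr f k) (n + 1) ξ).trans ?_
          rw [hk, map_zero]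
          rfl
        obtain ⟨y, rfl⟩ := exists_map_eq hS (pr f W) (n + 1) _ h2
        rw [eq_zero_of_injective _ (pr f W) n y, map_zero]
      have h2 : s = e.inv.hom.app (op W) (e.hom.hom.app (op W) s) := by
        have := congrArg (fun (t : (EtCoh.Rpush f (n + 2)).obj F ⟶ (EtCoh.Rpush f (n + 2)).obj F) =>
          t.hom.app (op W) s) e.hom_inv_id
        exact this.symm
      rw [h2, h1]
      exact map_zero _

end Groth.Agent.Etbc.H198.GermInj
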