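import Groth.Agent.Etbc.H198.StrictInj
import Groth.Agent.Etbc.H198.WeBC
import Groth.Agent.Etrest.FLCFlat
import Groth.Agent.Etrest.FLCLocal
import Groth.Agent.EtpbcA.ConsExact
import Groth.Agent.EtpbcA.KilledBy
import Groth.Agent.EtpbcB.TorsionBasic
import Groth.Agent.Hensel.Exist
import Groth.Agent.S0156
import Groth.Agent.S0184
import Groth.Agent.S0001

/-!
# Finite local constancy of `R^q f_* F` from specialization of cohomology

* `isFLC_strict`: over a strictly henselian base.
* `Spec`: the specialization property: over every strictly henselian local base, restriction to (some) geometric fibre over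
  every point is bijective on `H^q`.
* `isFLC_Rpush`: the general statement.
-/

set_option autoImplicit false
universe u
open CategoryTheory CategoryTheory.Limits AlgebraicGeometry Opposite

namespace Groth.Agent.Etbc.H198.Main

open Groth.Agent.EtpbcA Groth.Agent.Etbase Groth.Agent.Etrest.StrictLoc

/-- Every point of `Spec R` is the image of a geometric point such that the restriction to the geometric fibre is
bijective on `H^q(-, F)`. -/
def Special {X Y : Scheme.{u}} (f : X ⟶ Y) (F : EtCoh.Ab X) (q : ℕ) : Prop :=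
  ∀ (y : Y), ∃ (Ω : Type u) (_ : Field Ω) (_ : IsSepClosed Ω) (t : Spec (CommRingCat.of Ω) ⟶ Y)
    (_ : PreservesFiniteLimits (EtCoh.pull (pullback.fst f t))),
    t default = y ∧ Function.Bijective (EtCore.Hpull (pullback.fst f t) F q)

section strict

variable (R : Type u) [CommRing R] [HenselianLocalRing R] [IsSepClosed (IsLocalRing.ResidueField R)]
  {X : Scheme.{u}} (f : X ⟶ Spec (CommRingCat.of R)) [IsProper f] (F : EtCoh.Ab X) (q : ℕ)

theorem nonempty_stalk_equiv_H (hF : EtCoh.IsTorsion F) (H : Special f F q) {Ω : Type u} [Field Ω]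
    [IsSepClosed Ω] (ξ : Spec (CommRingCat.of Ω) ⟶ Spec (CommRingCat.of R)) :
    Nonempty ((EtCoh.stalk ξ).obj ((EtCoh.Rpush f q).obj F) ≃ EtCoh.H X F q) := by
  obtain ⟨Ω', _, _, t, _, ht, hb⟩ := H (ξ default)
  obtain ⟨e1⟩ := EtpbcB.GeomPointIndep.nonempty_stalkIso ξ t ht.symm
  obtain ⟨e2⟩ := S0156.result f t F hF q
  exact ⟨((e1.app ((EtCoh.Rpush f q).obj F)) ≪≫ e2).addCommGroupIsoToAddEquiv.toEquiv.trans
    (Equiv.ofBijective _ hb).symm⟩

theorem isFLC_strict (hF : EtCoh.IsTorsion F) (H : Special f F q)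
    (hG : EtPBC.IsConstructible ((EtCoh.Rpush f q).obj F)) :
    EtCoh.IsFiniteLocallyConstant ((EtCoh.Rpush f q).obj F) := by
  set G := (EtCoh.Rpush f q).obj F with hGdef
  have hfinpt : Finite ((EtCoh.stalk (StrictHensPoint.pt R)).obj G) :=
    EtpbcB.GeomPointIndep.finite_stalk_of_constructible (StrictHensPoint.pt R) G hG
  have hbt := StrictInj.germ_top_bijective R G
  have hfin : Finite (EtCoh.sect G (EtCoh.top (Spec (CommRingCat.of R)))) :=
    Finite.of_injective _ hbt.1
  refine StrictInj.isFLC_of_bijective_germ G ?_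
  intro Ω _ _ ξ v
  obtain ⟨Ω', _, _, t, _, ht, hb⟩ := H (ξ default)
  have hinj : Function.Injective (Germ.germ ξ G v) :=
    StrictInj.germ_injective R f F q (pullback.fst f t) (pullback.snd f t) t pullback.condition hb.1 ξ
      ht.symm v
  obtain ⟨e1⟩ := nonempty_stalk_equiv_H R f F q hF H ξ
  obtain ⟨e2⟩ := nonempty_stalk_equiv_H R f F q hF H (StrictHensPoint.pt R)
  have hfin2 : Finite ((EtCoh.stalk ξ).obj G) :=
    EtpbcB.GeomPointIndep.finite_stalk_of_constructible ξ G hG
  have hcard : Nat.card (EtCoh.sect G (EtCoh.top (Spec (CommRingCat.of R)))) =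
      Nat.card ((EtCoh.stalk ξ).obj G) :=
    Nat.card_congr ((Equiv.ofBijective _ hbt).trans (e2.trans e1.symm))
  exact (Nat.bijective_iff_injective_and_card _).2 ⟨hinj, hcard⟩

end strict

/-- A sheaf is finite locally constant hence locally constant. -/
theorem isLocallyConstant_of_flc {X : Scheme.{u}} {F : EtCoh.Ab X}
    (hF : EtCoh.IsFiniteLocallyConstant F) : EtRest.IsLocallyConstant F := by
  obtain ⟨ι, U, hU, h⟩ := hF
  refine ⟨ι, U, hU, fun i => ?_⟩
  obtain ⟨M, _, _, ⟨e⟩⟩ := h i
  exact ⟨ULift.{u + 1} M, inferInstance, ⟨e⟩⟩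

/-- Affine base. -/
theorem isFLC_Rpush_affine {X Y : Scheme.{u}} [IsAffine Y] (f : X ⟶ Y) [IsProper f]
    [LocallyOfFinitePresentation f] (F : EtCoh.Ab X) (hlc : EtCoh.IsFiniteLocallyConstant F) (q : ℕ)
    (H : ∀ (R : Type u) [CommRing R] [HenselianLocalRing R] [IsSepClosed (IsLocalRing.ResidueField R)]
      (σ : Spec (CommRingCat.of R) ⟶ Y), IsStrictLoc σ →
      Special (pullback.snd f σ) ((EtCoh.pull (pullback.fst f σ)).obj F) q) :
    EtCoh.IsFiniteLocallyConstant ((EtCoh.Rpush f q).obj F) := by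
  have hc : CompactSpace X := QuasiCompact.compactSpace_of_compactSpace f
  have hqs : QuasiSeparatedSpace X := by
    have : QuasiSeparated (f ≫ terminal.from Y) := inferInstance
    have h2 : f ≫ terminal.from Y = terminal.from X := Subsingleton.elim _ _
    rw [h2] at this
    exact (quasiSeparatedSpace_iff_quasiSeparated X).2 this
  have hcons : EtPBC.IsConstructible F := ConsExact.isConstructible_of_flc hlc
  obtain ⟨N, hN0, hFN⟩ := KilledBy.exists_killedBy_of_isConstructible hcons
  have hG : EtPBC.IsConstructible ((EtCoh.Rpush f q).obj F) := S0184.result f N hN0 F hcons hFN q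
  have hFt : EtCoh.IsTorsion F := EtpbcB.TorsionBasic.isTorsion_of_killedBy hN0 hFN
  refine Etrest.FLCFlat.isFLC_of_flat_cover _ hG fun s => ?_
  obtain ⟨R, _, _, _, _, hR, -⟩ := Hensel.Exist.exists_isStrictHenselization (Y.presheaf.stalk s)
  have hsep : IsSepClosed (IsLocalRing.ResidueField R) := hR.isSepClosure.sep_closed
  have hhens : HenselianLocalRing R := hR.henselian
  let g : Spec (CommRingCat.of R) ⟶ Y := Hens2.specOf Y s R
  have hg : IsStrictLoc g := isStrictLoc_specOf Y s R
  have hgf : Flat g := (Sga1.UlaSL.weaklyEtale_of_isStrictLoc hg).flat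
  refine ⟨_, g, hgf, IsLocalRing.closedPoint R, Etrest.VCBaseChange.specOf_closedPoint Y s R, ?_⟩
  have hsq : IsPullback (pullback.fst f g) (pullback.snd f g) f g := IsPullback.of_hasPullback f g
  obtain ⟨i⟩ := (S0001.result X _ _ _ f g (pullback.snd f g) (pullback.fst f g) hsq F hFt).1 q
  refine PullFLC.isFLC_of_iso i.symm ?_
  have hFN' : EtCoh.KilledBy N ((EtCoh.pull (pullback.fst f g)).obj F) :=
    EtpbcB.TorsionBasic.killedBy_map _ N _ hFN
  exact isFLC_strict R (pullback.snd f g) _ q (EtpbcB.TorsionBasic.isTorsion_of_killedBy hN0 hFN')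
    (H R g hg)
    (S0184.result (pullback.snd f g) N hN0 _
      (ConsExact.isConstructible_of_flc (PullFLC.isFLC_pull _ F hlc)) hFN' q)

end Groth.Agent.Etbc.H198.Main
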