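import Groth.Agent.Etbc.H198.GermInj
import Groth.Agent.Etcore.HpVia
import Groth.Agent.Etbase.StrictHensPoint
import Groth.Agent.Etcore.Stalks
import Groth.Agent.EtpbcB.GeomPointIndep
import Groth.Agent.EtpbcA.FLC

/-!
# Injectivity of germ maps of higher direct images over a strictly henselian base

* `surjective_top`: on `Spec R`, `R` strictly henselian local, global sections are exact.
* `eq_zero_of_vanH`: if `H^n(X, F) → H^n(P, F|P)` is injective for some `h : P ⟶ X` over a geometric point
  `t : Spec Ω ⟶ Y`, then a class in `H^n(X, F)` dying on an étale neighbourhood of `t` is zero.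
* `van_injective`: sections of `R^n f_* F` on `Spec R` vanishing near a point are zero under this hypothesis.
* `isFLC_of_bijective_germ`.
-/

set_option autoImplicit false
universe u
open CategoryTheory CategoryTheory.Limits AlgebraicGeometry Opposite Abelian
open scoped Groth.Agent.Etcore.EtInst
open Groth.Agent.Etcore.EtInst

namespace Groth.Agent.Etbc.H198.StrictInj

open Groth.Agent.Etcore.HQ Groth.Agent.Etcore.RpushLoc
open Groth.Agent.EtpbcA.ConsVan (Van)
open Groth.Agent.EtpbcA Groth.Agent.Etbase Groth.Agent.Etbc.H198.GermInj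
open Groth.Agent.Etcore.HpullCalc

section surj

variable (R : Type u) [CommRing R] [HenselianLocalRing R] [IsSepClosed (IsLocalRing.ResidueField R)]

theorem germ_top_bijective (G : EtCoh.Ab (Spec (CommRingCat.of R))) :
    Function.Bijective (Germ.germ (StrictHensPoint.pt R) G (StrictHensPoint.elt R)) :=
  StrictHensPoint.bijective_toPresheafFiber R G.obj

/-- Global sections over a strictly henselian base are exact. -/
theorem surjective_top {G G' : EtCoh.Ab (Spec (CommRingCat.of R))} (φ : G ⟶ G') [Epi φ] :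
    Function.Surjective (φ.hom.app (op (EtCoh.top (Spec (CommRingCat.of R))))) := by
  intro s
  have h1 : Epi ((EtCoh.stalk (StrictHensPoint.pt R)).map φ) := inferInstance
  rw [AddCommGrpCat.epi_iff_surjective] at h1
  obtain ⟨p, hp⟩ := h1 (Germ.germ (StrictHensPoint.pt R) G' (StrictHensPoint.elt R) s)
  obtain ⟨t, rfl⟩ := (germ_top_bijective R G).2 p
  refine ⟨t, (germ_top_bijective R G').1 ?_⟩
  rw [← hp]
  exact (Germ.germ_map _ φ _ t).symm

end surj

section geom

variable {X Y P : Scheme.{u}} (f : X ⟶ Y) (h : P ⟶ X) {Ω : Type u} [Field Ω] [IsSepClosed Ω]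
  (e : P ⟶ Spec (CommRingCat.of Ω)) (t : Spec (CommRingCat.of Ω) ⟶ Y) (w : h ≫ f = e ≫ t)
  (F : EtCoh.Ab X) (n : ℕ)

instance isIso_pr_top : IsIso (pr f (EtCoh.top Y)) := by
  have : IsIso (pullback.snd (𝟙 Y) f) := inferInstance
  exact this

attribute [local instance] pfl

include w in
/-- A class dying on an étale neighbourhood of a geometric point `t` dies on anything over `t`. -/
theorem res_eq_zero_of_vanH (y : (EtCoh.top Y).left) (hy : t default = y)
    (ξ : HQ F (pr f (EtCoh.top Y)) n) (hξ : VanH f F n ξ y) :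
    ∃ (r : P ⟶ ((EtCoh.bc f).obj (EtCoh.top Y)).left) (hr : r ≫ pr f (EtCoh.top Y) = h),
      res F r hr n ξ = 0 := by
  obtain ⟨V', k, v', hv', hk⟩ := hξ
  obtain ⟨l, hl, -⟩ := Scheme.exists_fac_of_etale_of_isSepClosed k.left t v' (hv'.trans hy.symm)
  have h1 : (e ≫ l) ≫ V'.hom = h ≫ f := by
    have h2 : k.left ≫ (EtCoh.top Y).hom = V'.hom := MorphismProperty.Over.w k
    have h3 : k.left ≫ (EtCoh.top Y).hom = k.left := Category.comp_id _
    rw [Category.assoc, ← h2]
    have h4 : l ≫ k.left ≫ (EtCoh.top Y).hom = t := (congrArg (fun q => l ≫ q) h3).trans hl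
    rw [w]
    exact congrArg (fun q => e ≫ q) h4
  let m : P ⟶ ((EtCoh.bc f).obj V').left := pullback.lift (e ≫ l) h h1
  have hm : m ≫ pr f V' = h := pullback.lift_snd _ _ _
  have hr : (m ≫ mm f k) ≫ pr f (EtCoh.top Y) = h := by rw [Category.assoc, mm_pr, hm]
  refine ⟨m ≫ mm f k, hr, ?_⟩
  rw [← res_res F (mm f k) (mm_pr f k) m hm (m ≫ mm f k) rfl hr n ξ, hk, map_zero]

include w in
/-- If `H^n(X, F) → H^n(P, F|P)` is injective then classes dying near `t` are zero. -/
theorem eq_zero_of_vanH (hinj : Function.Injective (EtCore.Hpull h F n))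
    (y : (EtCoh.top Y).left) (hy : t default = y)
    (ξ : HQ F (pr f (EtCoh.top Y)) n) (hξ : VanH f F n ξ y) : ξ = 0 := by
  obtain ⟨r, hr, h0⟩ := res_eq_zero_of_vanH f h e t w F n y hy ξ hξ
  obtain ⟨x, rfl⟩ := (Groth.Agent.Etcore.HpVia.hp_bijective_of_isIso (pr f (EtCoh.top Y)) F n).2 ξ
  have h1 : hp h F n x = 0 := by
    rw [← h0, res_apply, hp_comp_th]
  have h2 : x = 0 := by
    apply hinj
    rw [map_zero]
    exact h1
  rw [h2, map_zero]

end geom

section strict

variable (R : Type u) [CommRing R] [HenselianLocalRing R] [IsSepClosed (IsLocalRing.ResidueField R)]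
  {X : Scheme.{u}} (f : X ⟶ Spec (CommRingCat.of R)) (F : EtCoh.Ab X) (n : ℕ)

attribute [local instance] pfl

/-- Sections of `R^n f_* F` vanishing near a point vanish, if the restriction to one geometric fibre over this
point is injective on cohomology. -/
theorem van_injective {P : Scheme.{u}} (h : P ⟶ X) {Ω : Type u} [Field Ω] [IsSepClosed Ω]
    (e : P ⟶ Spec (CommRingCat.of Ω)) (t : Spec (CommRingCat.of Ω) ⟶ Spec (CommRingCat.of R))
    (w : h ≫ f = e ≫ t) (hinj : Function.Injective (EtCore.Hpull h F n))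
    (y : (EtCoh.top (Spec (CommRingCat.of R))).left) (hy : t default = y)
    (s : EtCoh.sect ((EtCoh.Rpush f n).obj F) (EtCoh.top (Spec (CommRingCat.of R))))
    (hs : Van _ s y) : s = 0 :=
  eq_zero_of_van f (fun φ _ => surjective_top R φ) y n F
    (fun ξ hξ => eq_zero_of_vanH f h e t w F n hinj y hy ξ hξ) s hs

/-- Injectivity of germ maps. -/
theorem germ_injective {P : Scheme.{u}} (h : P ⟶ X) {Ω : Type u} [Field Ω] [IsSepClosed Ω]
    (e : P ⟶ Spec (CommRingCat.of Ω)) (t : Spec (CommRingCat.of Ω) ⟶ Spec (CommRingCat.of R))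
    (w : h ≫ f = e ≫ t) (hinj : Function.Injective (EtCore.Hpull h F n))
    {Ω' : Type u} [Field Ω'] [IsSepClosed Ω'] (ξ : Spec (CommRingCat.of Ω') ⟶ Spec (CommRingCat.of R))
    (hξ : ξ default = t default) (v : Germ.Fib ξ (EtCoh.top (Spec (CommRingCat.of R)))) :
    Function.Injective (Germ.germ ξ ((EtCoh.Rpush f n).obj F) v) := by
  rw [injective_iff_map_eq_zero]
  intro s hs
  rw [← map_zero (Germ.germ ξ ((EtCoh.Rpush f n).obj F) v), Germ.germ_eq_iff] at hs
  obtain ⟨V, g, v', hv', hg⟩ := hs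
  have hpt : (EtCoh.top (Spec (CommRingCat.of R))).hom (Germ.pt ξ v) = ξ default := Germ.hom_pt ξ v
  refine van_injective R f F n h e t w hinj (Germ.pt ξ v) ?_ s ⟨V, g, Germ.pt ξ v', ?_, ?_⟩
  · rw [← hξ]
    exact hpt.symm
  · rw [← hv']
    rfl
  · rw [map_zero] at hg
    exact hg

end strict

/-- A sheaf whose finite group of global sections maps bijectively to all stalks is finite locally constant. -/
theorem isFLC_of_bijective_germ {S : Scheme.{u}} (G : EtCoh.Ab S) [Finite (EtCoh.sect G (EtCoh.top S))]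
    (h : ∀ (Ω : Type u) [Field Ω] [IsSepClosed Ω] (ξ : Spec (CommRingCat.of Ω) ⟶ S)
      (v : Germ.Fib ξ (EtCoh.top S)), Function.Bijective (Germ.germ ξ G v)) :
    EtCoh.IsFiniteLocallyConstant G := by
  rw [FLC.flc_iff]
  intro x
  have : Small.{0} (EtCoh.sect G (EtCoh.top S)) := inferInstance
  let M : Type := Shrink.{0} (EtCoh.sect G (EtCoh.top S))
  let e : M ≃+ EtCoh.sect G (EtCoh.top S) := Shrink.addEquiv
  refine ⟨EtCoh.top S, x, M, inferInstance, Finite.of_equiv _ e.symm.toEquiv, e.toAddMonoidHom, rfl, ?_⟩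
  intro Ω _ _ ξ v
  exact (h Ω ξ v).comp e.bijective

end Groth.Agent.Etbc.H198.StrictInj
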